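import Groth.Agent.QC.FiniteType
import Groth.Agent.QC.Closure
import Groth.Agent.QC.Coherent
import Groth.Prelude.Def_FlatMod2
import Mathlib

/-!
# Finite locally free modules: free sections on small affines, with a small import closure
-/

set_option autoImplicit false
set_option backward.isDefEq.respectTransparency false

universe u

open CategoryTheory CategoryTheory.Limits AlgebraicGeometry TopologicalSpace Opposite Groth.Agent.QC

namespace Groth.Agent.FreeLite

variable {X Y : Scheme.{u}}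

theorem final_opensMap (f : X ⟶ Y) : (Opens.map f.base).Final where
  out U := by
    let t : StructuredArrow U (Opens.map f.base) :=
      StructuredArrow.mk (Y := (⊤ : Y.Opens)) (homOfLE (fun x _ => trivial) : U ⟶ f ⁻¹ᵁ (⊤ : Y.Opens))
    have : Nonempty (StructuredArrow U (Opens.map f.base)) := ⟨t⟩
    exact zigzag_isConnected fun j₁ j₂ =>
      (Zigzag.of_hom (StructuredArrow.homMk (homOfLE le_top) rfl : j₁ ⟶ t)).trans
        (Zigzag.of_inv (StructuredArrow.homMk (homOfLE le_top) rfl : j₂ ⟶ t))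

/-- pullback of the structure module -/
noncomputable def pullUnitIso (f : X ⟶ Y) :
    (Scheme.Modules.pullback f).obj (Coh.structureModule Y) ≅ Coh.structureModule X :=
  have : (SheafOfModules.pushforward.{u} f.toRingCatSheafHom).IsRightAdjoint :=
    inferInstanceAs (Scheme.Modules.pushforward f).IsRightAdjoint
  @asIso _ _ _ _ (SheafOfModules.pullbackObjUnitToUnit f.toRingCatSheafHom)
    (@SheafOfModules.instIsIsoPullbackObjUnitToUnitOfFinal _ _ _ _ _ _ _ _ _ _ f.toRingCatSheafHom this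
      (final_opensMap f))

/-- pullback of a free module -/
noncomputable def pullFreeIso (f : X ⟶ Y) (n : ℕ) :
    (Scheme.Modules.pullback f).obj (FlatMod.freeMod Y n) ≅ FlatMod.freeMod X n :=
  PreservesCoproduct.iso (Scheme.Modules.pullback f) _ ≪≫ Sigma.mapIso fun _ => pullUnitIso f

/-- `freeMod` is the free sheaf of modules. -/
noncomputable def freeModIso (X : Scheme.{u}) (n : ℕ) :
    SheafOfModules.free.{u} (R := X.ringCatSheaf) (ULift.{u} (Fin n)) ≅ FlatMod.freeMod X n :=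
  Sigma.whiskerEquiv (f := fun _ : ULift.{u} (Fin n) => Coh.structureModule X)
    (g := fun _ : Fin n => Coh.structureModule X) Equiv.ulift (fun _ => Iso.refl _)

variable {M : X.Modules}

theorem isQCoh (h : FlatMod.IsFinLocFree M) : Coh.IsQCoh M :=
  isQCoh_of_local fun x => by
    obtain ⟨U, n, hx, ⟨e⟩⟩ := h x
    exact ⟨_, U.ι, inferInstance, by simpa using hx, isQCoh_of_iso (e ≪≫ (freeModIso _ n).symm).symm
      (show Coh.IsQCoh (SheafOfModules.free.{u} (R := (↑U : Scheme.{u}).ringCatSheaf) (ULift.{u} (Fin n))) from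
        inferInstance)⟩

theorem nonempty_sections_equiv {W : X.Opens} {n : ℕ} (e : M.restrict W.ι ≅ FlatMod.freeMod (↑W) n)
    {D : X.Opens} (hD : IsAffineOpen D) (hDW : D ≤ W) :
    Nonempty (Γ(M, D) ≃ₗ[Γ(X, D)] (ULift.{u} (Fin n) →₀ Γ(X, D))) := by
  let ι' : Spec Γ(X, D) ⟶ (W : Scheme.{u}) :=
    IsOpenImmersion.lift W.ι hD.fromSpec (by rw [hD.range_fromSpec, Scheme.Opens.range_ι]; exact hDW)
  have hι : ι' ≫ W.ι = hD.fromSpec := IsOpenImmersion.lift_fac _ _ _
  haveI : IsOpenImmersion (ι' ≫ W.ι) := by rw [hι]; infer_instance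
  haveI : IsOpenImmersion ι' := IsOpenImmersion.of_comp ι' W.ι
  let e' : M.restrict hD.fromSpec ≅ FlatMod.freeMod (Spec Γ(X, D)) n :=
    (Scheme.Modules.restrictFunctorCongr hι).symm.app M ≪≫
      (Scheme.Modules.restrictFunctorComp ι' W.ι).app M ≪≫
      (Scheme.Modules.restrictFunctor ι').mapIso e ≪≫
      (Scheme.Modules.restrictFunctorIsoPullback ι').app _ ≪≫ pullFreeIso ι' n
  let e'' : M.restrict hD.fromSpec ≅ tilde (ModuleCat.of Γ(X, D) (ULift.{u} (Fin n) →₀ Γ(X, D))) :=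
    e' ≪≫ (freeModIso _ n).symm ≪≫ (tildeFinsupp (R := Γ(X, D)) (ULift.{u} (Fin n))).symm
  exact ⟨(topEquiv hD M).symm.trans (moduleSpecΓFunctor.mapIso e'' ≪≫
    (tilde.toTildeΓNatIso.app (ModuleCat.of Γ(X, D) (ULift.{u} (Fin n) →₀ Γ(X, D)))).symm).toLinearEquiv⟩

/-- Around every point there are arbitrarily small affines with free sections. -/
theorem exists_affine_free (h : FlatMod.IsFinLocFree M) (x : X) :
    ∃ (D : X.Opens) (n : ℕ), IsAffineOpen D ∧ x ∈ D ∧ Nonempty (Γ(M, D) ≃ₗ[Γ(X, D)] (Fin n → Γ(X, D))) := by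
  obtain ⟨W, n, hx, ⟨e⟩⟩ := h x
  obtain ⟨D, hD, hxD, hDW⟩ := (Opens.isBasis_iff_nbhd.mp X.isBasis_affineOpens) hx
  obtain ⟨l⟩ := nonempty_sections_equiv e hD hDW
  exact ⟨D, n, hD, hxD,
    ⟨l.trans ((Finsupp.linearEquivFunOnFinite _ _ _).trans (LinearEquiv.funCongrLeft _ _ Equiv.ulift.symm))⟩⟩

theorem isCoh (h : FlatMod.IsFinLocFree M) : Coh.IsCoh M := by
  have hq := isQCoh h
  refine ⟨hq, isFT_iff_exists_hasFinGen.mpr fun x => ?_⟩
  obtain ⟨D, n, hD, hxD, ⟨l⟩⟩ := exists_affine_free h x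
  haveI : Module.Finite Γ(X, D) Γ(M, D) := Module.Finite.equiv l.symm
  exact ⟨D, hxD, hasFinGen_of_finite hD (hM := hq)⟩

end Groth.Agent.FreeLite
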